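import Mathlib
import Cfsg.Agent.Lib.Helper56.TC
import Cfsg.Agent.Lib.Helper28.G2Mult.L2.C0
import Cfsg.Agent.Lib.Helper28.G2Mult.L2.C1
import Cfsg.Agent.Lib.Helper28.G2Mult.L2.C2
import Cfsg.Agent.Lib.Helper28.G2Mult.L2.C3
set_option autoImplicit false
set_option maxRecDepth 1000000

namespace Cfsg.Agent.Lib.Helper28.G2Mult.L2

open Cfsg.Agent.Lib.Helper56.TC Cfsg.Agent.Lib.Helper56.TC.Tabs
open Cfsg.Agent.Lib.Helper28.CovL

theorem uN_1775 : Upto T.chkName 1775 := upto_add (upto_zero T.chkName) rfl cN_0
theorem uN_3443 : Upto T.chkName 3443 := upto_add uN_1775 rfl cN_1775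
theorem uN_4908 : Upto T.chkName 4908 := upto_add uN_3443 rfl cN_3443
theorem uN_6174 : Upto T.chkName 6174 := upto_add uN_4908 rfl cN_4908
theorem uN_7914 : Upto T.chkName 7914 := upto_add uN_6174 rfl cN_6174
theorem uN_9713 : Upto T.chkName 9713 := upto_add uN_7914 rfl cN_7914
theorem uN_11574 : Upto T.chkName 11574 := upto_add uN_9713 rfl cN_9713
theorem uN_13383 : Upto T.chkName 13383 := upto_add uN_11574 rfl cN_11574
theorem uN_15285 : Upto T.chkName 15285 := upto_add uN_13383 rfl cN_13383
theorem uN_17226 : Upto T.chkName 17226 := upto_add uN_15285 rfl cN_15285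
theorem uN_19176 : Upto T.chkName 19176 := upto_add uN_17226 rfl cN_17226
theorem uN_21036 : Upto T.chkName 21036 := upto_add uN_19176 rfl cN_19176
theorem uN_22898 : Upto T.chkName 22898 := upto_add uN_21036 rfl cN_21036
theorem uN_24870 : Upto T.chkName 24870 := upto_add uN_22898 rfl cN_22898
theorem uN_26730 : Upto T.chkName 26730 := upto_add uN_24870 rfl cN_24870
theorem uN_28632 : Upto T.chkName 28632 := upto_add uN_26730 rfl cN_26730
theorem uN_30631 : Upto T.chkName 30631 := upto_add uN_28632 rfl cN_28632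
theorem uN_32536 : Upto T.chkName 32536 := upto_add uN_30631 rfl cN_30631
theorem uN_34407 : Upto T.chkName 34407 := upto_add uN_32536 rfl cN_32536
theorem uN_36305 : Upto T.chkName 36305 := upto_add uN_34407 rfl cN_34407
theorem uN_38205 : Upto T.chkName 38205 := upto_add uN_36305 rfl cN_36305
theorem uN_40168 : Upto T.chkName 40168 := upto_add uN_38205 rfl cN_38205
theorem uN_42045 : Upto T.chkName 42045 := upto_add uN_40168 rfl cN_40168
theorem uN_43874 : Upto T.chkName 43874 := upto_add uN_42045 rfl cN_42045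
theorem uN_45647 : Upto T.chkName 45647 := upto_add uN_43874 rfl cN_43874
theorem uN_47489 : Upto T.chkName 47489 := upto_add uN_45647 rfl cN_45647
theorem uN_49266 : Upto T.chkName 49266 := upto_add uN_47489 rfl cN_47489
theorem uN_51047 : Upto T.chkName 51047 := upto_add uN_49266 rfl cN_49266
theorem uN_52875 : Upto T.chkName 52875 := upto_add uN_51047 rfl cN_51047
theorem uN_54631 : Upto T.chkName 54631 := upto_add uN_52875 rfl cN_52875
theorem uN_56230 : Upto T.chkName 56230 := upto_add uN_54631 rfl cN_54631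
theorem uN_57734 : Upto T.chkName 57734 := upto_add uN_56230 rfl cN_56230
theorem uN_59170 : Upto T.chkName 59170 := upto_add uN_57734 rfl cN_57734
theorem uN_60643 : Upto T.chkName 60643 := upto_add uN_59170 rfl cN_59170
theorem uN_62137 : Upto T.chkName 62137 := upto_add uN_60643 rfl cN_60643
theorem uN_63579 : Upto T.chkName 63579 := upto_add uN_62137 rfl cN_62137
theorem uN_64848 : Upto T.chkName 64848 := upto_add uN_63579 rfl cN_63579
theorem uN_65708 : Upto T.chkName 65708 := upto_add uN_64848 rfl cN_64848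
theorem uF_666 : Upto T.chkFinName 666 := upto_add (upto_zero T.chkFinName) rfl cF_0
theorem uF_1332 : Upto T.chkFinName 1332 := upto_add uF_666 rfl cF_666
theorem uF_1998 : Upto T.chkFinName 1998 := upto_add uF_1332 rfl cF_1332
theorem uF_2664 : Upto T.chkFinName 2664 := upto_add uF_1998 rfl cF_1998
theorem uF_3330 : Upto T.chkFinName 3330 := upto_add uF_2664 rfl cF_2664
theorem uF_3996 : Upto T.chkFinName 3996 := upto_add uF_3330 rfl cF_3330
theorem uF_4662 : Upto T.chkFinName 4662 := upto_add uF_3996 rfl cF_3996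
theorem uF_5328 : Upto T.chkFinName 5328 := upto_add uF_4662 rfl cF_4662
theorem uF_5994 : Upto T.chkFinName 5994 := upto_add uF_5328 rfl cF_5328
theorem uF_6048 : Upto T.chkFinName 6048 := upto_add uF_5994 rfl cF_5994

/-- The certificate is valid. -/
theorem certC : CertC T where
  hNN := by decide +kernel
  hN := by decide +kernel
  hinvK := by decide +kernel
  hinvli := by decide +kernel
  hsubK := by decide +kernel
  hrelK := by decide +kernel
  hrx := by decide +kernel
  hchk := uN_65708
  hfin := uF_6048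

end Cfsg.Agent.Lib.Helper28.G2Mult.L2
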